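import Cfsg.Agent.H98.Extraspecial.Minus
import Cfsg.Agent.H96.EvenMax.Special

/-!
The group 2^(1+4) of minus type from the defining predicates.
-/

set_option autoImplicit false

namespace Cfsg.Agent.H98.Extraspecial

open Matrix Cfsg.Geo

variable {ι : Type} [Fintype ι] [DecidableEq ι] {F : Type*} [Field F] [Fintype F]

theorem minus_of_data [Nonempty ι] (h2 : (2 : F) ≠ 0) {R : Subgroup (GL ι F)} (hRs : IsSymplecticTypeGroup 2 R)
    (hRi : ActsAbsolutelyIrreducibly (matrixSet R)) (hR5 : Nat.card R = 2 ^ 5)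
    (hRZ : Nat.card (Subgroup.center R) = 2) (hRm : IsOfMinusType 2 R) : Minus R := by
  classical
  haveI : Finite R := Nat.finite_of_card_ne_zero (by rw [hR5]; norm_num)
  have hscalar : ∀ M : Matrix ι ι F, (∀ y ∈ R, M * (y : Matrix ι ι F) = (y : Matrix ι ι F) * M) →
      ∃ c : F, M = c • 1 := fun M hM => hRi.2 M (by rintro _ ⟨y, hy, rfl⟩; exact hM y hy)
  obtain ⟨z, a, b, hz, hz1, hz2, ha, hb⟩ := H96.EvenMax.exists_swap_involution hRs (by rw [hR5]; norm_num) hRZ
  have h4 : ∀ x : R, x ^ 4 = 1 := fun x => by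
    have := Monoid.pow_exponent_eq_one x
    rwa [hRs.exponent_eq] at this
  obtain ⟨hphi, -⟩ := H46.symp_exp_four
    ⟨hRs.pGroup, fun A hA hA' => hRs.cyclic_of_characteristic A hA hA'⟩ h4 hz hz2 hz1
  obtain ⟨c, hc⟩ := hscalar ((z : GL ι F) : Matrix ι ι F) fun y hy => by
    have := congrArg (fun w : R => ((w : GL ι F) : Matrix ι ι F)) (Subgroup.mem_center_iff.1 hz ⟨y, hy⟩)
    simpa [Subgroup.coe_mul, Units.val_mul] using this.symm
  obtain ⟨i⟩ := ‹Nonempty ι›
  have hzv : (z : GL ι F) = -1 := by
    have hc2 : c ^ 2 = 1 := by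
      have h1 : ((z : GL ι F) : Matrix ι ι F) ^ 2 = 1 := by
        rw [← Units.val_pow_eq_pow_val, ← Subgroup.coe_pow, hz2]; rfl
      rw [hc, smul_pow, one_pow] at h1
      simpa using congrFun (congrFun h1 i) i
    rcases sq_eq_one_iff.1 hc2 with h | h
    · rw [h, one_smul] at hc
      exact absurd (Subtype.ext (Units.ext hc)) hz1
    · exact Units.ext (by rw [hc, h, neg_one_smul, Units.val_neg, Units.val_one])
  have hneg1 : (-1 : GL ι F) ∈ R := hzv ▸ z.2
  have hcen : ∀ w : R, w ∈ Subgroup.center R → w = 1 ∨ w = z := by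
    intro w hw
    by_contra hcon
    push Not at hcon
    haveI := Fintype.ofFinite (Subgroup.center R)
    have := Finset.card_le_univ ({1, ⟨z, hz⟩, ⟨w, hw⟩} : Finset (Subgroup.center R))
    rw [Finset.card_insert_of_notMem, Finset.card_insert_of_notMem, Finset.card_singleton,
      ← Nat.card_eq_fintype_card, hRZ] at this
    · omega
    · rw [Finset.mem_singleton]; exact fun h => hcon.2 (congrArg Subtype.val h).symm
    · simp only [Finset.mem_insert, Finset.mem_singleton, not_or]
      exact ⟨fun h => hz1 (congrArg Subtype.val h).symm, fun h => hcon.1 (congrArg Subtype.val h).symm⟩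
  refine
    { two := h2
      nonempty := ⟨i⟩
      neg_one := hneg1
      card := by rw [hR5]; norm_num
      sq := fun y hy => ?_
      comm := fun x hx y hy => ?_
      center := fun x hx hall => ?_
      scalar := hscalar
      minus := fun u hu v hv huu hvv huv hu1 hu2 => ?_
      exists_inv := ⟨a, a.2, ?_, fun h => ?_, fun h => ?_⟩ }
  · rcases hphi.1 ⟨y, hy⟩ with h | h
    · exact Or.inl (by simpa [sq] using congrArg Subtype.val h)
    · exact Or.inr (by simpa [sq, hzv] using congrArg Subtype.val h)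
  · rcases hphi.2 ⟨x, hx⟩ ⟨y, hy⟩ with h | h
    · exact Or.inl (by
        have := congrArg Subtype.val h
        simp only [Subgroup.coe_mul, Subgroup.coe_inv, OneMemClass.coe_one] at this
        rwa [mul_inv_eq_one, mul_inv_eq_iff_eq_mul] at this)
    · exact Or.inr (by
        have := congrArg Subtype.val h
        simp only [Subgroup.coe_mul, Subgroup.coe_inv, hzv] at this
        rwa [mul_inv_eq_iff_eq_mul, mul_inv_eq_iff_eq_mul, neg_one_mul, neg_mul] at this)
  · rcases hcen ⟨x, hx⟩ (Subgroup.mem_center_iff.2 fun g => Subtype.ext (hall g g.2).symm) with h | h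
    · exact Or.inl (congrArg Subtype.val h)
    · exact Or.inr ((congrArg Subtype.val h).trans hzv)
  · by_contra hno
    simp only [not_or] at hno
    obtain ⟨hv1, hv2, hv3, hv4⟩ := hno
    let S : Set R := {⟨-1, hneg1⟩, ⟨u, hu⟩, ⟨v, hv⟩}
    have hS : ∀ s ∈ S, ∀ t ∈ S, s * t = t * s := by
      rintro s (rfl | rfl | rfl) t (rfl | rfl | rfl) <;> apply Subtype.ext <;>
        simp [huv]
    haveI := Subgroup.isMulCommutative_closure hS
    have hsq : ∀ x ∈ Subgroup.closure S, x * x = 1 := by
      intro x hx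
      induction hx using Subgroup.closure_induction with
      | mem y hy => rcases hy with rfl | rfl | rfl <;> apply Subtype.ext <;> simp [huu, hvv]
      | one => simp
      | mul x y hx hy ex ey =>
        rw [show x * y * (x * y) = x * (y * x) * y by group, setLike_mul_comm hy hx, ← mul_assoc, ex, one_mul, ey]
      | inv x hx ex => rw [← _root_.mul_inv_rev, ex, inv_one]
    have hcard := hRm (Subgroup.closure S) inferInstance hsq
    have m0 : ∀ s ∈ S, s ∈ Subgroup.closure S := fun s hs => Subgroup.subset_closure hs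
    have mn := m0 ⟨-1, hneg1⟩ (by simp [S])
    have mu := m0 ⟨u, hu⟩ (by simp [S])
    have mv := m0 ⟨v, hv⟩ (by simp [S])
    let f : Fin 8 → Subgroup.closure S := ![1, ⟨_, mn⟩, ⟨_, mu⟩, ⟨_, mul_mem mn mu⟩, ⟨_, mv⟩, ⟨_, mul_mem mn mv⟩,
      ⟨_, mul_mem mu mv⟩, ⟨_, mul_mem mn (mul_mem mu mv)⟩]
    have one_ne : (1 : GL ι F) ≠ -1 := fun h => by
      have h0 : (1 : Matrix ι ι F) = -1 := by rw [← Units.val_one, ← Units.val_neg]; exact congrArg Units.val h
      have h1 : (1 : F) = -1 := by simpa using congrFun (congrFun h0 i) i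
      exact h2 (by linear_combination h1)
    have ne_neg : ∀ y : GL ι F, y ≠ -y := fun y h => one_ne (by simpa using congrArg (· * y⁻¹) h)
    have huinv : u⁻¹ = u := inv_eq_of_mul_eq_one_right huu
    have hvinv : v⁻¹ = v := inv_eq_of_mul_eq_one_right hvv
    have e1 : -u ≠ 1 := fun h => hu2 (by rw [← neg_neg u, h])
    have e2 : -u ≠ -1 := fun h => hu1 (neg_injective h)
    have e3 : -v ≠ 1 := fun h => hv2 (by rw [← neg_neg v, h])
    have e4 : -v ≠ -1 := fun h => hv1 (neg_injective h)
    have e5 : u * v ≠ 1 := fun h => hv3 (by rw [← huinv]; exact eq_inv_of_mul_eq_one_right h)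
    have e6 : u * v ≠ -1 := fun h => hv4 (by
      have h' : u * -v = 1 := by rw [mul_neg, h, neg_neg]
      rw [← huinv, ← eq_inv_of_mul_eq_one_right h', neg_neg])
    have e7 : -(u * v) ≠ 1 := fun h => e6 (by rw [← neg_neg (u * v), h])
    have e8 : -(u * v) ≠ -1 := fun h => e5 (neg_injective h)
    have e9 : u * v ≠ u := fun h => hv1 (mul_eq_left.1 h)
    have e10 : u * v ≠ v := fun h => hu1 (mul_eq_right.1 h)
    have e11 : u * v ≠ -u := fun h => hv2 (mul_left_cancel (a := u) (by rw [h, mul_neg, mul_one]))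
    have e12 : u * v ≠ -v := fun h => hu2 (mul_right_cancel (b := v) (by rw [h, neg_mul, one_mul]))
    have e13 : -(u * v) ≠ u := fun h => e11 (by rw [← neg_neg (u * v), h])
    have e14 : -(u * v) ≠ v := fun h => e12 (by rw [← neg_neg (u * v), h])
    have e15 : -(u * v) ≠ -u := fun h => e9 (neg_injective h)
    have e16 : -(u * v) ≠ -v := fun h => e10 (neg_injective h)
    have e17 : -v ≠ u := fun h => hv4 (by rw [← h, neg_neg])
    have e18 : -u ≠ v := fun h => hv4 h.symm
    have e19 : -u ≠ -v := fun h => hv3 (neg_injective h).symm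
    have hf : Function.Injective f := by
      intro s t hst
      fin_cases s <;> fin_cases t <;>
        simp [f, Subtype.ext_iff, one_ne, one_ne.symm, ne_neg u, (ne_neg u).symm, ne_neg v, (ne_neg v).symm,
          ne_neg (u * v), (ne_neg (u * v)).symm, hu1, hu1.symm, hu2, hu2.symm, hv1, Ne.symm hv1, hv2, Ne.symm hv2, hv3,
          Ne.symm hv3, hv4, Ne.symm hv4, e1, e1.symm, e2, e2.symm, e3, e3.symm, e4, e4.symm, e5, e5.symm, e6,
          e6.symm, e7, e7.symm, e8, e8.symm, e9, e9.symm, e10, e10.symm, e11, e11.symm, e12, e12.symm, e13,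
          e13.symm, e14, e14.symm, e15, e15.symm, e16, e16.symm, e17, e17.symm, e18, e18.symm, e19, e19.symm]
          at hst ⊢
    have := Nat.card_le_card_of_injective f hf
    simp only [Nat.card_fin] at this
    omega
  · simpa [sq] using congrArg Subtype.val ha
  · have hb' := congrArg Subtype.val hb
    simp only [Subgroup.coe_mul, Subgroup.coe_inv, h, mul_one, mul_inv_cancel, hzv] at hb'
    have h0 : (1 : Matrix ι ι F) = -1 := by rw [← Units.val_one, ← Units.val_neg]; exact congrArg Units.val hb'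
    have h1 : (1 : F) = -1 := by simpa using congrFun (congrFun h0 i) i
    exact h2 (by linear_combination h1)
  · have hb' := congrArg Subtype.val hb
    simp only [Subgroup.coe_mul, Subgroup.coe_inv, h, hzv, mul_neg, neg_mul, mul_one, mul_inv_cancel, one_mul,
      neg_neg] at hb'
    have h0 : (1 : Matrix ι ι F) = -1 := by rw [← Units.val_one, ← Units.val_neg]; exact congrArg Units.val hb'.symm
    have h1 : (1 : F) = -1 := by simpa using congrFun (congrFun h0 i) i
    exact h2 (by linear_combination h1)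

end Cfsg.Agent.H98.Extraspecial
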