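import Cfsg.Agent.H98.Extraspecial.Minus
import Cfsg.Agent.S5976

/-!
An element of order five in the normaliser of 2^(1+4) of minus type inside Sp_4.
-/

set_option autoImplicit false

namespace Cfsg.Agent.H98.Extraspecial

open Matrix

variable {F : Type*} [Field F]

local notation "GL4" => GL (Fin 2 ⊕ Fin 2) F
local notation "M4" => Matrix (Fin 2 ⊕ Fin 2) (Fin 2 ⊕ Fin 2) F

variable {R : Subgroup (GL (Fin 2 ⊕ Fin 2) F)}

/-- Four elements of order four forming a path under anticommutation, with trivial common centraliser. -/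
structure Quad (R : Subgroup (GL (Fin 2 ⊕ Fin 2) F)) (i j k u : GL (Fin 2 ⊕ Fin 2) F) : Prop where
  mi : i ∈ R
  mj : j ∈ R
  mk' : k ∈ R
  mu : u ∈ R
  ii : i * i = -1
  jj : j * j = -1
  kk : k * k = -1
  uu : u * u = -1
  ij : i * j = -(j * i)
  jk : j * k = -(k * j)
  ku : k * u = -(u * k)
  ik : i * k = k * i
  iu : i * u = u * i
  ju : j * u = u * j
  cent : ∀ g : GL (Fin 2 ⊕ Fin 2) F, g * i = i * g → g * j = j * g → g * k = k * g → g * u = u * g →
    ∀ y ∈ R, g * y = y * g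

theorem exists_quad (h : Minus R) : ∃ i j k u, Quad R i j k u := by
  classical
  obtain ⟨t, ht, htt, ht1, ht2⟩ := h.exists_inv
  obtain ⟨u, hu, htu, huu⟩ : ∃ u ∈ R, t * u = -(u * t) ∧ u * u = -1 := by
    obtain ⟨v, hv, htv⟩ := h.exists_anti ht ht1 ht2
    rcases h.sq v hv with hvv | hvv
    · refine ⟨t * v, R.mul_mem ht hv, ?_, ?_⟩
      · rw [← mul_assoc, htt, one_mul, mul_assoc]
        have : v * t = -(t * v) := by rw [htv, neg_neg]
        rw [this, mul_neg, ← mul_assoc, htt, one_mul, neg_neg]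
      · have : v * t = -(t * v) := by rw [htv, neg_neg]
        rw [mul_assoc, ← mul_assoc v t v, this, neg_mul, mul_neg, mul_assoc t v v, hvv, mul_one, htt]
    · exact ⟨v, hv, htv, hvv⟩
  have hut : u * t = -(t * u) := by rw [htu, neg_neg]
  let C : Subgroup (GL (Fin 2 ⊕ Fin 2) F) := R ⊓ Subgroup.centralizer {t, u}
  have hC : ∀ {y}, y ∈ C ↔ y ∈ R ∧ t * y = y * t ∧ u * y = y * u := fun {y} => by
    simp [C, Subgroup.mem_centralizer_iff]
  have hinv : ∀ w ∈ C, w * w = 1 → w = 1 ∨ w = -1 := by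
    intro w hw hww
    obtain ⟨hwR, hwt, hwu⟩ := hC.1 hw
    rcases h.minus t ht w hwR htt hww hwt ht1 ht2 with e | e | e | e
    · exact Or.inl e
    · exact Or.inr e
    · exact absurd (htu.symm.trans (e ▸ hwu.symm)).symm (h.ne_neg _)
    · subst e
      rw [mul_neg, neg_mul, neg_inj] at hwu
      rw [← hwu] at htu
      exact absurd htu (h.ne_neg _)
  have hdec : ∀ y ∈ R, ∃ c ∈ C, y = c ∨ y = c * t ∨ y = c * u ∨ y = c * (t * u) := by
    intro y hy
    rcases h.comm t ht y hy with a | a <;> rcases h.comm u hu y hy with b | b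
    · exact ⟨y, hC.2 ⟨hy, a, b⟩, Or.inl rfl⟩
    · refine ⟨y * t, hC.2 ⟨R.mul_mem hy ht, ?_, ?_⟩, Or.inr (Or.inl ?_)⟩
      · rw [← mul_assoc, a]
      · rw [← mul_assoc, b, neg_mul, mul_assoc, hut, mul_neg, neg_neg, ← mul_assoc]
      · rw [mul_assoc, htt, mul_one]
    · refine ⟨-(y * u), hC.2 ⟨h.neg_mem (R.mul_mem hy hu), ?_, ?_⟩, Or.inr (Or.inr (Or.inl ?_))⟩
      · rw [mul_neg, neg_mul, ← mul_assoc, a, neg_mul, mul_assoc, htu, mul_neg, neg_neg, ← mul_assoc]
      · rw [mul_neg, neg_mul, ← mul_assoc, b]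
      · rw [neg_mul, mul_assoc, huu, mul_neg, mul_one, neg_neg]
    · refine ⟨y * (t * u), hC.2 ⟨R.mul_mem hy (R.mul_mem ht hu), ?_, ?_⟩, Or.inr (Or.inr (Or.inr ?_))⟩
      · rw [← mul_assoc, a, neg_mul, mul_assoc, mul_assoc y (t * u) t, mul_assoc t u t, hut, mul_neg, mul_neg]
      · rw [← mul_assoc, b, neg_mul, mul_assoc, mul_assoc y (t * u) u, ← mul_assoc u t u, hut, neg_mul, mul_neg,
          neg_neg]
      · rw [mul_assoc, mul_assoc t u (t * u), ← mul_assoc u t u, hut, neg_mul, mul_neg, mul_assoc t u u, huu]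
        simp [← mul_assoc t t, htt]
  -- counting: C is not too small
  have hbig : ∀ l : List (GL (Fin 2 ⊕ Fin 2) F), l.length < 8 → ∃ c ∈ C, c ∉ l := by
    intro l hl
    by_contra hno
    push Not at hno
    haveI : Finite R := Nat.finite_of_card_ne_zero (by rw [h.card]; omega)
    haveI : Fintype R := Fintype.ofFinite R
    let L := l ++ l.map (· * t) ++ l.map (· * u) ++ l.map (· * (t * u))
    have hsub : (Finset.univ.map ⟨fun y : R => (y : GL (Fin 2 ⊕ Fin 2) F), Subtype.val_injective⟩) ⊆ L.toFinset := by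
      intro y hy
      obtain ⟨⟨z, hz⟩, -, rfl⟩ := Finset.mem_map.1 hy
      obtain ⟨c, hc, hcz⟩ := hdec z hz
      have hcl := hno c hc
      simp only [List.mem_toFinset, L, List.mem_append, List.mem_map, Function.Embedding.coeFn_mk]
      rcases hcz with rfl | rfl | rfl | rfl
      · exact Or.inl (Or.inl (Or.inl hcl))
      · exact Or.inl (Or.inl (Or.inr ⟨c, hcl, rfl⟩))
      · exact Or.inl (Or.inr ⟨c, hcl, rfl⟩)
      · exact Or.inr ⟨c, hcl, rfl⟩
    have h1 := (Finset.card_le_card hsub).trans (List.toFinset_card_le L)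
    rw [Finset.card_map, Finset.card_univ, ← Nat.card_eq_fintype_card, h.card] at h1
    simp [L] at h1
    omega
  have hsq : ∀ c ∈ C, c ≠ 1 → c ≠ -1 → c * c = -1 := fun c hc h1 h2 =>
    (h.sq c (hC.1 hc).1).resolve_left fun e => (hinv c hc e).elim h1 h2
  obtain ⟨i, hiC, hi⟩ := hbig [1, -1] (by simp)
  simp only [List.mem_cons, List.not_mem_nil, or_false, not_or] at hi
  obtain ⟨j, hjC, hj⟩ := hbig [1, -1, i, -i] (by simp)
  simp only [List.mem_cons, List.not_mem_nil, or_false, not_or] at hj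
  obtain ⟨hiR, hit, hiu⟩ := hC.1 hiC
  obtain ⟨hjR, hjt, hju⟩ := hC.1 hjC
  have hii := hsq i hiC hi.1 hi.2
  have hjj := hsq j hjC hj.1 hj.2.1
  have hcomm_i : ∀ c ∈ C, c * i = i * c → c = 1 ∨ c = -1 ∨ c = i ∨ c = -i := by
    intro c hc hci
    by_cases h1 : c = 1
    · exact Or.inl h1
    by_cases h2 : c = -1
    · exact Or.inr (Or.inl h2)
    have hcc := hsq c hc h1 h2
    have hmem : c * i ∈ C := C.mul_mem hc hiC
    have h3 : (c * i) * (c * i) = 1 := by
      rw [mul_assoc, ← mul_assoc i c i, ← hci, mul_assoc c i i, hii, ← mul_assoc, hcc]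
      simp [hcc]
    have hi_inv : i⁻¹ = -i := inv_eq_of_mul_eq_one_right (by rw [mul_neg, hii, neg_neg])
    rcases hinv _ hmem h3 with e | e
    · exact Or.inr (Or.inr (Or.inr (by rw [← hi_inv]; exact eq_inv_of_mul_eq_one_left e)))
    · refine Or.inr (Or.inr (Or.inl ?_))
      have : c = -i⁻¹ := by rw [← neg_one_mul, ← e, mul_inv_cancel_right]
      rw [this, hi_inv, neg_neg]
  have hij : i * j = -(j * i) := (h.comm i hiR j hjR).resolve_left fun e => by
    rcases hcomm_i j hjC e.symm with a | a | a | a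
    exacts [hj.1 a, hj.2.1 a, hj.2.2.1 a, hj.2.2.2 a]
  refine ⟨i, j, i * t, u,
    { mi := hiR, mj := hjR, mk' := R.mul_mem hiR ht, mu := hu, ii := hii, jj := hjj, uu := huu
      kk := by rw [mul_assoc, ← mul_assoc t i t, hit, mul_assoc i t t, htt, mul_one, hii]
      ij := hij
      jk := by rw [← mul_assoc, mul_assoc i t j, hjt, ← mul_assoc, hij, neg_mul, neg_neg]
      ku := by rw [mul_assoc, htu, mul_neg, ← mul_assoc, ← hiu, mul_assoc]
      ik := by rw [mul_assoc i t i, hit]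
      iu := hiu.symm
      ju := hju.symm
      cent := fun g gi gj gk gu y hy => ?_ }⟩
  have gt : g * t = t * g := by
    have : g * (i * t) = i * (g * t) := by rw [← mul_assoc, gi, mul_assoc]
    rw [this, mul_assoc] at gk
    exact mul_left_cancel gk
  have gC : ∀ c ∈ C, g * c = c * g := by
    intro c hc
    have small : ∀ c ∈ C, c * i = i * c → g * c = c * g := by
      intro c hc hci
      rcases hcomm_i c hc hci with rfl | rfl | rfl | rfl
      · simp
      · simp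
      · exact gi
      · rw [mul_neg, neg_mul, gi]
    rcases h.comm c (hC.1 hc).1 i hiR with e | e
    · exact small c hc e
    · have hji : j * i = -(i * j) := by rw [hij, neg_neg]
      have h4 := small (c * j) (C.mul_mem hc hjC) (by
        rw [mul_assoc, hji, mul_neg, ← mul_assoc, e, neg_mul, neg_neg, mul_assoc])
      rw [← mul_assoc, mul_assoc c j g, ← gj, ← mul_assoc] at h4
      exact mul_right_cancel h4
  obtain ⟨c, hc, rfl | rfl | rfl | rfl⟩ := hdec y hy
  · exact gC _ hc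
  · rw [← mul_assoc, gC c hc, mul_assoc, gt, mul_assoc]
  · rw [← mul_assoc, gC c hc, mul_assoc, gu, mul_assoc]
  · rw [← mul_assoc, gC c hc, mul_assoc, ← mul_assoc g t u, gt, mul_assoc t g u, gu, ← mul_assoc t u g, mul_assoc, mul_assoc, mul_assoc]

/-- The element 1 + s for s² = −1. -/
theorem exists_tau (h2 : (2 : F) ≠ 0) {s : GL (Fin 2 ⊕ Fin 2) F} (hs : s * s = -1) :
    ∃ T : GL4, (T : M4) = 1 + (s : M4) ∧ (∀ y : GL4, s * y = y * s → T * y * T⁻¹ = y) ∧
      (∀ y : GL4, s * y = -(y * s) → T * y * T⁻¹ = s * y) := by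
  have hS : (s : M4) * s = -1 := by rw [← Units.val_mul, hs, Units.val_neg, Units.val_one]
  let T : GL4 := ⟨1 + (s : M4), (2 : F)⁻¹ • (1 - (s : M4)), by
      rw [Matrix.mul_smul, add_mul, one_mul, mul_sub, mul_one, hS,
        show (1 : M4) - (s : M4) + ((s : M4) - -1) = (2 : F) • 1 by rw [two_smul]; abel, inv_smul_smul₀ h2], by
      rw [Matrix.smul_mul, sub_mul, one_mul, mul_add, mul_one, hS,
        show 1 + (s : M4) - ((s : M4) + -1) = (2 : F) • 1 by rw [two_smul]; abel, inv_smul_smul₀ h2]⟩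
  refine ⟨T, rfl, fun y hy => ?_, fun y hy => ?_⟩
  · rw [mul_inv_eq_iff_eq_mul]
    apply Units.ext
    have hy' : (s : M4) * y = (y : M4) * s := by simpa using congrArg Units.val hy
    show (1 + (s : M4)) * y = (y : M4) * (1 + (s : M4))
    rw [add_mul, mul_add, one_mul, mul_one, hy']
  · rw [mul_inv_eq_iff_eq_mul]
    apply Units.ext
    have hy' : (s : M4) * y = -((y : M4) * s) := by simpa using congrArg Units.val hy
    show (1 + (s : M4)) * y = ((s * y : GL4) : M4) * (1 + (s : M4))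
    rw [Units.val_mul, add_mul, mul_add, one_mul, mul_one, mul_assoc (s : M4) y s,
      show (y : M4) * s = -((s : M4) * y) by rw [hy', neg_neg], mul_neg, ← mul_assoc, hS, neg_mul, one_mul, neg_neg,
      add_comm]

theorem sf_tau {s : GL4} (hs : s * s = -1) (hsp : s ∈ Cfsg.spGL 2 F) (u v : Fin 2 ⊕ Fin 2 → F) :
    Cfsg.sympForm 2 F ((1 + (s : M4)) *ᵥ u) ((1 + (s : M4)) *ᵥ v) = 2 * Cfsg.sympForm 2 F u v := by
  have hS : (s : M4) * s = -1 := by rw [← Units.val_mul, hs, Units.val_neg, Units.val_one]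
  have h1 := S5976.mem_spGL.1 hsp ((s : M4) *ᵥ u) v
  have h2 := S5976.mem_spGL.1 hsp u v
  rw [Matrix.mulVec_mulVec, hS, Matrix.neg_mulVec, Matrix.one_mulVec] at h1
  simp only [S5976.sf_eq_spB, map_neg, LinearMap.neg_apply] at h1 h2
  simp only [S5976.sf_eq_spB, Matrix.add_mulVec, Matrix.one_mulVec, map_add, LinearMap.add_apply, h2]
  linear_combination -h1

/-- The normaliser contains a non-scalar element of order five. -/
theorem exists_five (h : Minus R) (hRf : R ≤ Cfsg.spGL 2 F) :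
    ∃ y ∈ Cfsg.spGL 2 F, (∀ w, w ∈ R ↔ y * w * y⁻¹ ∈ R) ∧ y ^ 5 = 1 ∧ y ≠ 1 := by
  classical
  obtain ⟨i, j, k, u, q⟩ := exists_quad h
  obtain ⟨Ti, hTi, ci, ai⟩ := exists_tau h.two q.ii
  obtain ⟨Tj, hTj, cj, aj⟩ := exists_tau h.two q.jj
  obtain ⟨Tk, hTk, ck, ak⟩ := exists_tau h.two q.kk
  obtain ⟨Tu, hTu, cu, au⟩ := exists_tau h.two q.uu
  have h4 : (4 : F)⁻¹ ≠ 0 := inv_ne_zero (by rw [show (4 : F) = 2 * 2 by norm_num]; exact mul_ne_zero h.two h.two)
  let z : GL4 := Units.map (algebraMap F M4).toMonoidHom (Units.mk0 _ h4)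
  have hz : ∀ y : GL4, z * y = y * z := fun y => Units.ext (Algebra.commutes ((4 : F)⁻¹) (y : M4))
  set T := Ti * Tj * Tk * Tu with hT
  set g := z * T with hg
  have hconj : ∀ y : GL4, g * y * g⁻¹ = T * y * T⁻¹ := fun y => by
    rw [hg, show z * T * y * (z * T)⁻¹ = z * (T * y * T⁻¹) * z⁻¹ by group, hz, mul_inv_cancel_right]
  have hTy : ∀ y : GL4, T * y * T⁻¹ = Ti * (Tj * (Tk * (Tu * y * Tu⁻¹) * Tk⁻¹) * Tj⁻¹) * Ti⁻¹ := fun y => by
    rw [hT]; group
  have hmul : ∀ (S a b : GL4), S * (a * b) * S⁻¹ = (S * a * S⁻¹) * (S * b * S⁻¹) := fun S a b => by group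
  have ji : j * i = -(i * j) := by rw [q.ij, neg_neg]
  have kj : k * j = -(j * k) := by rw [q.jk, neg_neg]
  have uk : u * k = -(k * u) := by rw [q.ku, neg_neg]
  have e1 : g * i * g⁻¹ = j := by
    rw [hconj, hTy, cu i q.iu.symm, ck i q.ik.symm, aj i ji, hmul, ai j q.ij, ci i rfl, mul_assoc, ji, mul_neg,
      ← mul_assoc, q.ii]
    simp
  have e2 : g * j * g⁻¹ = k := by
    rw [hconj, hTy, cu j q.ju.symm, ak j kj, hmul Tj, cj j rfl, aj k q.jk, mul_assoc j k j, kj, mul_neg,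
      ← mul_assoc j j k, q.jj]
    simp [ci k q.ik]
  have e3 : g * k * g⁻¹ = u := by
    rw [hconj, hTy, au k uk, hmul Tk, ck k rfl, ak u q.ku, mul_assoc k u k, uk, mul_neg, ← mul_assoc k k u, q.kk]
    simp [cj u q.ju, ci u q.iu]
  have e4 : g * u * g⁻¹ = i * j * k * u := by
    rw [hconj, hTy, cu u rfl, ak u q.ku, hmul Tj, aj k q.jk, cj u q.ju, hmul Ti, hmul Ti, ai j q.ij, ci k q.ik,
      ci u q.iu]
  have e5 : g * (i * j * k * u) * g⁻¹ = i := by
    rw [hmul, hmul, hmul, e1, e2, e3, e4]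
    have step : u * (i * j * k * u) = -(i * j * k) * (u * u) := by
      rw [← mul_assoc, ← mul_assoc, ← mul_assoc, ← q.iu, mul_assoc i u j, ← q.ju, ← mul_assoc, mul_assoc _ u k, uk,
        mul_neg, neg_mul, ← mul_assoc, ← mul_assoc, neg_mul, neg_mul]
    rw [mul_assoc (j * k), step, q.uu, neg_mul_neg, mul_one]
    have step2 : k * (i * j) = -(i * j * k) := by
      rw [← mul_assoc, ← q.ik, mul_assoc i k j, kj, mul_neg, ← mul_assoc]
    rw [mul_assoc j k, ← mul_assoc k (i * j) k, step2, neg_mul, mul_assoc (i * j), q.kk, mul_neg, mul_neg, mul_one, mul_neg, neg_neg,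
      ← mul_assoc, ji, neg_mul, mul_assoc, q.jj]
    simp
  have hit : ∀ (n : ℕ) (y : GL4), g ^ (n + 1) * y * (g ^ (n + 1))⁻¹ = g * (g ^ n * y * (g ^ n)⁻¹) * g⁻¹ :=
    fun n y => by rw [pow_succ']; group
  have h0 : ∀ y : GL4, g ^ 0 * y * (g ^ 0)⁻¹ = y := fun y => by simp
  have f1 : g ^ 5 * i * (g ^ 5)⁻¹ = i := by simp only [hit, h0, e1, e2, e3, e4, e5]
  have f2 : g ^ 5 * j * (g ^ 5)⁻¹ = j := by simp only [hit, h0, e1, e2, e3, e4, e5]
  have f3 : g ^ 5 * k * (g ^ 5)⁻¹ = k := by simp only [hit, h0, e1, e2, e3, e4, e5]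
  have f4 : g ^ 5 * u * (g ^ 5)⁻¹ = u := by simp only [hit, h0, e1, e2, e3, e4, e5]
  have hcent : ∀ y ∈ R, g ^ 5 * y = y * g ^ 5 :=
    q.cent _ (mul_inv_eq_iff_eq_mul.1 f1) (mul_inv_eq_iff_eq_mul.1 f2) (mul_inv_eq_iff_eq_mul.1 f3)
      (mul_inv_eq_iff_eq_mul.1 f4)
  have tau_mem : ∀ {s T : GL4}, s ∈ R → (∀ y : GL4, s * y = y * s → T * y * T⁻¹ = y) →
      (∀ y : GL4, s * y = -(y * s) → T * y * T⁻¹ = s * y) → ∀ y ∈ R, T * y * T⁻¹ ∈ R := by
    intro s T hs hc ha y hy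
    rcases h.comm s hs y hy with e | e
    · rw [hc y e]; exact hy
    · rw [ha y e]; exact R.mul_mem hs hy
  have hmem : ∀ y ∈ R, g * y * g⁻¹ ∈ R := by
    intro y hy
    rw [hconj, hTy]
    exact tau_mem q.mi ci ai _ (tau_mem q.mj cj aj _ (tau_mem q.mk' ck ak _ (tau_mem q.mu cu au _ hy)))
  have hnorm : ∀ w, w ∈ R ↔ g * w * g⁻¹ ∈ R := by
    refine fun w => ⟨hmem w, fun hw => ?_⟩
    obtain ⟨a, ha, hae⟩ : ∃ a ∈ R, a = g ^ 5 * w * (g ^ 5)⁻¹ :=
      ⟨_, hmem _ (hmem _ (hmem _ (hmem _ hw))), by simp only [hit, h0]⟩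
    have h5 : w = a := by
      have := hcent a ha
      rw [hae] at this ⊢
      have h6 : g ^ 5 * w * (g ^ 5)⁻¹ = w := by
        have h7 := congrArg (fun x => (g ^ 5)⁻¹ * x) this
        simpa [mul_assoc] using h7
      exact h6.symm
    exact h5 ▸ ha
  have hgsp : g ∈ Cfsg.spGL 2 F := by
    refine S5976.mem_spGL.2 fun v w => ?_
    have hv : ∀ x, (g : M4) *ᵥ x = (4 : F)⁻¹ • ((Ti : M4) *ᵥ ((Tj : M4) *ᵥ ((Tk : M4) *ᵥ ((Tu : M4) *ᵥ x)))) := by
      intro x
      have : (z : M4) = (4 : F)⁻¹ • 1 := Algebra.algebraMap_eq_smul_one _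
      simp [hg, hT, this, Matrix.mulVec_mulVec, Matrix.mul_assoc, Matrix.smul_mulVec]
    rw [hv, hv, S5976.sf_eq_spB]
    simp only [map_smul, LinearMap.smul_apply]
    rw [← S5976.sf_eq_spB, hTi, hTj, hTk, hTu, sf_tau q.ii (hRf q.mi), sf_tau q.jj (hRf q.mj), sf_tau q.kk (hRf q.mk'), sf_tau q.uu (hRf q.mu)]
    have h2 := h.two
    simp only [smul_eq_mul]
    rw [show (4 : F) = 2 * 2 by norm_num]
    field_simp
  obtain ⟨c, hc⟩ := h.scalar ((g ^ 5 : GL4) : M4) fun y hy => by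
    simpa [Units.val_mul] using congrArg Units.val (hcent y hy)
  have hc1 : c = 1 ∨ c = -1 := by
    have h5 := S5976.mem_spGL.1 (Subgroup.pow_mem _ hgsp 5) (Pi.single (.inr 0) 1) (Pi.single (.inl 0) 1)
    rw [hc, Matrix.smul_mulVec, Matrix.one_mulVec, Matrix.smul_mulVec, Matrix.one_mulVec, S5976.sf_eq_spB] at h5
    simp only [map_smul, LinearMap.smul_apply] at h5
    rw [← S5976.sf_eq_spB] at h5
    have h4' : Cfsg.sympForm 2 F (Pi.single (.inr 0) 1) (Pi.single (.inl 0) 1) = (1 : F) := by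
      rw [S5976.sf_eq_spB, Symplectic.spB_single]; simp [Matrix.J]
    rw [h4', smul_eq_mul, smul_eq_mul, mul_one] at h5
    exact mul_self_eq_one_iff.1 h5
  have hgi : g * i ≠ i * g := by
    intro e
    have hji' : j = i := by rw [← e1, e, mul_inv_cancel_right]
    have := q.ij
    rw [hji'] at this
    exact h.ne_neg _ this
  rcases hc1 with rfl | rfl
  · refine ⟨g, hgsp, hnorm, Units.ext (by rw [hc, one_smul, Units.val_one]), fun e => hgi (by simp [e])⟩
  · refine ⟨-g, ?_, fun w => by simpa using hnorm w, ?_, fun e => hgi ?_⟩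
    · have : (-1 : GL4) ∈ Cfsg.spGL 2 F := hRf h.neg_one
      simpa using Subgroup.mul_mem _ this hgsp
    · rw [Odd.neg_pow (by decide)]
      exact Units.ext (by rw [Units.val_neg, hc, neg_one_smul, neg_neg, Units.val_one])
    · rw [← neg_neg g, e]; simp

end Cfsg.Agent.H98.Extraspecial
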