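import Cfsg.Prelude.Def_GeometricClasses
import Mathlib.GroupTheory.Perm.Cycle.Type
import Mathlib.LinearAlgebra.Matrix.Rank

/-!
Elements of odd prime order normalising an absolutely irreducible extraspecial group 2^(1+4) of minus type.
-/

set_option autoImplicit false

namespace Cfsg.Agent.H98.Extraspecial

open Matrix

variable {ι : Type} [Fintype ι] [DecidableEq ι] {F : Type*} [Field F]

/-- The facts used about a group 2^(1+4) of minus type inside GL(ι, F). -/
structure Minus (R : Subgroup (GL ι F)) : Prop where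
  two : (2 : F) ≠ 0
  nonempty : Nonempty ι
  neg_one : (-1 : GL ι F) ∈ R
  card : Nat.card R = 32
  sq : ∀ y ∈ R, y * y = 1 ∨ y * y = -1
  comm : ∀ x ∈ R, ∀ y ∈ R, x * y = y * x ∨ x * y = -(y * x)
  center : ∀ x ∈ R, (∀ y ∈ R, x * y = y * x) → x = 1 ∨ x = -1
  scalar : ∀ M : Matrix ι ι F, (∀ y ∈ R, M * (y : Matrix ι ι F) = (y : Matrix ι ι F) * M) → ∃ c : F, M = c • 1
  minus : ∀ a ∈ R, ∀ b ∈ R, a * a = 1 → b * b = 1 → a * b = b * a → a ≠ 1 → a ≠ -1 →
    b = 1 ∨ b = -1 ∨ b = a ∨ b = -a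
  exists_inv : ∃ t ∈ R, t * t = 1 ∧ t ≠ 1 ∧ t ≠ -1

variable {R : Subgroup (GL ι F)}

theorem rank_add_le' (A B : Matrix ι ι F) : (A + B).rank ≤ A.rank + B.rank := by
  simp only [Matrix.rank]
  refine (Submodule.finrank_mono ?_).trans (Submodule.finrank_add_le_finrank_add_finrank _ _)
  rintro _ ⟨v, rfl⟩
  rw [Matrix.mulVecLin_apply, Matrix.add_mulVec]
  exact Submodule.add_mem_sup ⟨v, rfl⟩ ⟨v, rfl⟩

namespace Minus

theorem neg_mem (h : Minus R) {y : GL ι F} (hy : y ∈ R) : -y ∈ R := by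
  simpa using R.mul_mem h.neg_one hy

theorem ne_neg (h : Minus R) (y : GL ι F) : y ≠ -y := by
  intro he
  obtain ⟨i⟩ := h.nonempty
  have h1 : (1 : GL ι F) = -1 := by
    have := congrArg (· * y⁻¹) he
    simpa using this
  have h0 : (1 : Matrix ι ι F) = -1 := by
    rw [← Units.val_one, ← Units.val_neg]
    exact congrArg Units.val h1
  have h2 : (1 : F) = -1 := by simpa using congrFun (congrFun h0 i) i
  exact h.two (by linear_combination h2)

theorem inv_eq (h : Minus R) {y : GL ι F} (hy : y ∈ R) : y⁻¹ = y ∨ y⁻¹ = -y := by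
  rcases h.sq y hy with h1 | h1
  · exact Or.inl (inv_eq_of_mul_eq_one_right h1)
  · exact Or.inr (inv_eq_of_mul_eq_one_right (by rw [mul_neg, h1, neg_neg]))

/-- Commuting non-central involutions agree up to sign. -/
theorem anti_of_inv (h : Minus R) {a b : GL ι F} (ha : a ∈ R) (hb : b ∈ R) (haa : a * a = 1) (hbb : b * b = 1)
    (ha1 : a ≠ 1) (ha2 : a ≠ -1) (hb1 : b ≠ 1) (hb2 : b ≠ -1) (hab : b ≠ a) (hab' : b ≠ -a) :
    a * b = -(b * a) := by
  refine (h.comm a ha b hb).resolve_left fun hc => ?_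
  rcases h.minus a ha b hb haa hbb hc ha1 ha2 with h1 | h1 | h1 | h1
  exacts [hb1 h1, hb2 h1, hab h1, hab' h1]

theorem exists_anti (h : Minus R) {t : GL ι F} (ht : t ∈ R) (h1 : t ≠ 1) (h2 : t ≠ -1) :
    ∃ u ∈ R, t * u = -(u * t) := by
  by_contra hno
  push Not at hno
  rcases h.center t ht fun y hy => (h.comm t ht y hy).resolve_right (hno y hy) with h' | h'
  exacts [h1 h', h2 h']

theorem trace_eq_zero (h : Minus R) {c : GL ι F} (hc : c ∈ R) (h1 : c ≠ 1) (h2 : c ≠ -1) :
    (c : Matrix ι ι F).trace = 0 := by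
  obtain ⟨u, hu, hcu⟩ := h.exists_anti hc h1 h2
  have h3 : (c : Matrix ι ι F).trace = -(c : Matrix ι ι F).trace := by
    conv_lhs => rw [show c = -(u * c * u⁻¹) by rw [eq_comm, ← neg_mul, ← hcu, mul_inv_cancel_right]]
    rw [Units.val_neg, Matrix.trace_neg, Units.val_mul, Units.val_mul, Matrix.trace_units_conj]
  exact (mul_eq_zero.1 (show (2 : F) * _ = 0 by linear_combination h3)).resolve_left h.two

section Normalizing

variable {g : GL ι F} (hN : ∀ y, y ∈ R ↔ g * y * g⁻¹ ∈ R) {r : ℕ} (hr : Odd r) (hgr : g ^ r = 1)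

include hN in
theorem conj_mem {y : GL ι F} (hy : y ∈ R) : g * y * g⁻¹ ∈ R := (hN y).1 hy

include hr hgr in
theorem not_conj_neg (h : Minus R) (y : GL ι F) : g * y * g⁻¹ ≠ -y := by
  intro he
  have hk : ∀ k : ℕ, g ^ k * y * (g ^ k)⁻¹ = (-1) ^ k * y := by
    intro k
    induction k with
    | zero => simp
    | succ k ih =>
      rw [pow_succ, show g ^ k * g * y * (g ^ k * g)⁻¹ = g ^ k * (g * y * g⁻¹) * (g ^ k)⁻¹ by group, he, mul_neg,
        neg_mul, ih, pow_succ]
      simp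
  have h1 := hk r
  rw [hgr, hr.neg_one_pow, one_mul, inv_one, mul_one, neg_one_mul] at h1
  exact h.ne_neg y h1

include hN hr hgr in
/-- A non-central element fixed by `g` has a fixed partner anticommuting with it. -/
theorem exists_partner (h : Minus R) {t : GL ι F} (ht : t ∈ R) (hgt : g * t = t * g) (h1 : t ≠ 1) (h2 : t ≠ -1) :
    ∃ s ∈ R, g * s = s * g ∧ t * s = -(s * t) := by
  obtain ⟨u, hu, htu⟩ := h.exists_anti ht h1 h2
  have hmem : ∀ k : ℕ, (u * g) ^ k * (g ^ k)⁻¹ ∈ R := by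
    intro k
    induction k with
    | zero => simp
    | succ k ih =>
      rw [pow_succ', pow_succ', show u * g * (u * g) ^ k * (g * g ^ k)⁻¹ = u * (g * ((u * g) ^ k * (g ^ k)⁻¹) * g⁻¹) by
        group]
      exact R.mul_mem hu (conj_mem hN ih)
  have hsR : (u * g) ^ r ∈ R := by simpa [hgr] using hmem r
  refine ⟨(u * g) ^ r, hsR, ?_, ?_⟩
  · set s := (u * g) ^ r with hs
    have hc : s * (u * g) = u * g * s := by rw [hs, ← pow_succ, ← pow_succ']
    rcases h.comm s hsR u hu with hsu | hsu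
    · rw [← mul_assoc, hsu, mul_assoc, mul_assoc] at hc
      exact (mul_left_cancel hc).symm
    · exfalso
      rw [← mul_assoc, hsu, neg_mul, mul_assoc, mul_assoc, ← mul_neg] at hc
      have h3 := mul_left_cancel hc
      exact h.not_conj_neg hr hgr s (by rw [← h3, neg_mul, mul_inv_cancel_right])
  · have hk : ∀ k : ℕ, t * (u * g) ^ k = (-1) ^ k * ((u * g) ^ k * t) := by
      intro k
      induction k with
      | zero => simp
      | succ k ih =>
        have e : t * (u * g) = -(u * g * t) := by rw [← mul_assoc, htu, neg_mul, mul_assoc, ← hgt, mul_assoc]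
        rw [pow_succ' (u * g), ← mul_assoc, e, neg_mul, mul_assoc, ih, pow_succ]
        rcases neg_one_pow_eq_or (GL ι F) k with hk | hk <;> simp [hk, mul_assoc]
    rw [hk r, hr.neg_one_pow, neg_one_mul]

include hN hr hgr in
/-- A fixed-point-free element moves some element to a translate by an element of order four. -/
theorem exists_order_four (h : Minus R) (hfix : ∀ y ∈ R, g * y = y * g → y = 1 ∨ y = -1) :
    ∃ y ∈ R, g * y * g⁻¹ * y⁻¹ * (g * y * g⁻¹ * y⁻¹) = -1 := by
  by_contra hno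
  push Not at hno
  obtain ⟨t, ht, htt, ht1, ht2⟩ := h.exists_inv
  have hinv : ∀ y ∈ R, g * y * g⁻¹ * y⁻¹ * (g * y * g⁻¹ * y⁻¹) = 1 := fun y hy =>
    (h.sq _ (R.mul_mem (conj_mem hN hy) (R.inv_mem hy))).resolve_right (hno y hy)
  set t1 := g * t * g⁻¹ with ht1d
  set t2 := g * t1 * g⁻¹ with ht2d
  have m1 : t1 ∈ R := conj_mem hN ht
  have m2 : t2 ∈ R := conj_mem hN m1
  have q1 : t1 * t1 = 1 := by rw [ht1d, show g * t * g⁻¹ * (g * t * g⁻¹) = g * (t * t) * g⁻¹ by group, htt]; group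
  have q2 : t2 * t2 = 1 := by rw [ht2d, show g * t1 * g⁻¹ * (g * t1 * g⁻¹) = g * (t1 * t1) * g⁻¹ by group, q1]; group
  set c := t1 * t with hc
  set c' := t2 * t1 with hc'
  have mc : c ∈ R := R.mul_mem m1 ht
  have hcc : c * c = 1 := by
    have := hinv t ht
    rwa [show t⁻¹ = t from inv_eq_of_mul_eq_one_right htt] at this
  have hσc : g * c * g⁻¹ = c' := by rw [hc, hc', ht2d, ht1d]; group
  have hc'c' : c' * c' = 1 := by
    rw [← hσc, show g * c * g⁻¹ * (g * c * g⁻¹) = g * (c * c) * g⁻¹ by group, hcc]; group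
  have hc1 : c ≠ 1 := by
    intro he
    have h3 : g * t = t * g := by
      have h4 : t1 = t := by rw [← inv_eq_of_mul_eq_one_right htt]; exact eq_inv_of_mul_eq_one_left he
      calc g * t = t1 * g := by rw [ht1d]; group
        _ = t * g := by rw [h4]
    exact (hfix t ht h3).elim ht1 ht2
  have hc2 : c ≠ -1 := by
    intro he
    refine h.not_conj_neg hr hgr t ?_
    have h4 : t1 = -t := by simpa [hc, mul_assoc, htt] using congrArg (· * t) he
    exact h4
  have hprod : c' * c * (c' * c) = 1 := by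
    have h3 : c' * c = t2 * t := by rw [hc, hc', ← mul_assoc, mul_assoc t2 t1 t1, q1, mul_one]
    have h4 : g * (t * t1) * g⁻¹ * (t * t1)⁻¹ = t1 * t2 * t1 * t := by
      rw [_root_.mul_inv_rev, inv_eq_of_mul_eq_one_right htt, inv_eq_of_mul_eq_one_right q1, ← mul_assoc,
        show g * (t * t1) * g⁻¹ = t1 * t2 by rw [ht2d, ht1d]; group]
    have h5 := hinv _ (R.mul_mem ht m1)
    rw [h4] at h5
    rw [h3]
    rcases h.comm t1 m1 t2 m2 with h6 | h6
    · rwa [h6, mul_assoc t2, q1, mul_one] at h5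
    · rwa [h6, neg_mul, neg_mul, neg_mul_neg, mul_assoc t2, q1, mul_one] at h5
  have hcomm : c * c' = c' * c := by
    have h3 : (c' * c)⁻¹ = c * c' := by
      rw [_root_.mul_inv_rev, inv_eq_of_mul_eq_one_right hcc, inv_eq_of_mul_eq_one_right hc'c']
    rw [← h3]; exact inv_eq_of_mul_eq_one_right hprod
  rcases h.minus c mc c' (hσc ▸ conj_mem hN mc) hcc hc'c' hcomm hc1 hc2 with e | e | e | e
  · refine hc1 ?_
    rw [← hσc] at e
    exact mul_left_cancel (a := g) (mul_right_cancel (b := g⁻¹) (by simpa using e))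
  · refine hc2 ?_
    rw [← hσc] at e
    have := congrArg (fun x => g⁻¹ * x * g) e
    simpa [mul_assoc] using this
  · refine (hfix c mc ?_).elim hc1 hc2
    calc g * c = (g * c * g⁻¹) * g := by group
      _ = c * g := by rw [hσc, e]
  · exact h.not_conj_neg hr hgr c (hσc.trans e)

include hN hr hgr in
/-- No element of order three is fixed-point-free. -/
theorem not_fix_three (h : Minus R) (h3 : r = 3) (hfix : ∀ y ∈ R, g * y = y * g → y = 1 ∨ y = -1) : False := by
  subst h3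
  obtain ⟨t, ht, htt, ht1, ht2⟩ := h.exists_inv
  set t1 := g * t * g⁻¹ with ht1d
  set t2 := g * t1 * g⁻¹ with ht2d
  have m1 : t1 ∈ R := conj_mem hN ht
  have m2 : t2 ∈ R := conj_mem hN m1
  have q1 : t1 * t1 = 1 := by rw [ht1d, show g * t * g⁻¹ * (g * t * g⁻¹) = g * (t * t) * g⁻¹ by group, htt]; group
  have q2 : t2 * t2 = 1 := by rw [ht2d, show g * t1 * g⁻¹ * (g * t1 * g⁻¹) = g * (t1 * t1) * g⁻¹ by group, q1]; group
  have nfix : ∀ {y}, y ∈ R → y ≠ 1 → y ≠ -1 → g * y * g⁻¹ ≠ y ∧ g * y * g⁻¹ ≠ -y := fun {y} hy h1 h2 =>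
    ⟨fun he => (hfix y hy (by rw [← mul_inv_eq_iff_eq_mul]; exact he)).elim h1 h2, h.not_conj_neg hr hgr y⟩
  have hconj1 : ∀ {y : GL ι F}, g * y * g⁻¹ = 1 → y = 1 := fun {y} he => by
    have := congrArg (fun x => g⁻¹ * x * g) he
    simpa [mul_assoc] using this
  have hconj2 : ∀ {y : GL ι F}, g * y * g⁻¹ = -1 → y = -1 := fun {y} he => by
    have := congrArg (fun x => g⁻¹ * x * g) he
    simpa [mul_assoc] using this
  have n11 : t1 ≠ 1 := fun he => ht1 (hconj1 he)
  have n12 : t1 ≠ -1 := fun he => ht2 (hconj2 he)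
  have n21 : t2 ≠ 1 := fun he => n11 (hconj1 he)
  have n22 : t2 ≠ -1 := fun he => n12 (hconj2 he)
  have hg3 : g * t2 * g⁻¹ = t := by
    have hg3' : g * g * g = 1 := by rw [← hgr]; simp [pow_succ]
    rw [ht2d, ht1d, show g * (g * (g * t * g⁻¹) * g⁻¹) * g⁻¹ = g * g * g * t * (g * g * g)⁻¹ by group, hg3']; simp
  have a01 := h.anti_of_inv ht m1 htt q1 ht1 ht2 n11 n12 (nfix ht ht1 ht2).1 (nfix ht ht1 ht2).2
  have a12 := h.anti_of_inv m1 m2 q1 q2 n11 n12 n21 n22 (nfix m1 n11 n12).1 (nfix m1 n11 n12).2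
  have a20 := h.anti_of_inv m2 ht q2 htt n21 n22 ht1 ht2 (hg3 ▸ (nfix m2 n21 n22).1) (hg3 ▸ (nfix m2 n21 n22).2)
  have hT : g * (t * t1 * t2) = t * t1 * t2 * g := by
    rw [← mul_inv_eq_iff_eq_mul,
      show g * (t * t1 * t2) * g⁻¹ = (g * t * g⁻¹) * (g * t1 * g⁻¹) * (g * t2 * g⁻¹) by group, ← ht1d, ← ht2d, hg3,
      mul_assoc, a20, mul_neg, ← mul_assoc]
    conv_rhs => rw [a01, neg_mul]
  rcases hfix _ (R.mul_mem (R.mul_mem ht m1) m2) hT with e | e
  · have e2 : t2 = t1 * t := by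
      rw [← inv_eq_of_mul_eq_one_right q1, ← inv_eq_of_mul_eq_one_right htt, ← _root_.mul_inv_rev]
      exact eq_inv_of_mul_eq_one_right e
    rw [e2, mul_assoc t1 t (t1 * t), ← mul_assoc t t1 t, a01, neg_mul, mul_neg, mul_assoc t1 t t, htt, mul_one,
      q1] at q2
    exact h.ne_neg 1 q2.symm
  · have e2 : -t2 = t1 * t := by
      rw [← inv_eq_of_mul_eq_one_right q1, ← inv_eq_of_mul_eq_one_right htt, ← _root_.mul_inv_rev]
      exact eq_inv_of_mul_eq_one_right (by rw [mul_neg, e, neg_neg])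
    rw [← neg_mul_neg, e2, mul_assoc t1 t (t1 * t), ← mul_assoc t t1 t, a01, neg_mul, mul_neg, mul_assoc t1 t t, htt,
      mul_one, q1] at q2
    exact h.ne_neg 1 q2.symm

include hN hr hgr in
/-- An element of odd prime order has order 3 or 5. -/
theorem cases (h : Minus R) [hp : Fact r.Prime] (hns : ∀ c : F, (g : Matrix ι ι F) ≠ c • 1) :
    (r = 3 ∧ Nat.card ↥(R ⊓ Subgroup.centralizer {g}) = 8 ∧
        ∃ t ∈ R, ∃ s ∈ R, g * t = t * g ∧ g * s = s * g ∧ t * s = -(s * t)) ∨
      (r = 5 ∧ Nat.card ↥(R ⊓ Subgroup.centralizer {g}) = 2 ∧ ∀ y ∈ R, g * y = y * g → y = 1 ∨ y = -1) := by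
  classical
  set C := R ⊓ Subgroup.centralizer {g} with hC
  have hCmem : ∀ {y}, y ∈ C ↔ y ∈ R ∧ g * y = y * g := fun {y} => by
    rw [hC, Subgroup.mem_inf, Subgroup.mem_centralizer_singleton_iff, eq_comm]
  haveI : Finite R := Nat.finite_of_card_ne_zero (by rw [h.card]; omega)
  haveI : Fintype R := Fintype.ofFinite R
  have hmod : Nat.card R ≡ Nat.card C [MOD r] := by
    let f : Function.End R := fun y => ⟨g * y * g⁻¹, conj_mem hN y.2⟩
    have hfk : ∀ (k : ℕ) (y : R), ((f ^ k) y : GL ι F) = g ^ k * y * (g ^ k)⁻¹ := by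
      intro k
      induction k with
      | zero => intro y; show (y : GL ι F) = _; simp
      | succ k ih =>
        intro y
        rw [pow_succ']
        show g * ((f ^ k) y : GL ι F) * g⁻¹ = _
        rw [ih, pow_succ']; group
    have hf : f ^ r ^ 1 = 1 := funext fun y => Subtype.ext (by rw [hfk, pow_one, hgr]; show _ = (y : GL ι F); simp)
    have := Equiv.Perm.card_fixedPoints_modEq (p := r) (n := 1) hf
    rw [← Nat.card_eq_fintype_card, ← Nat.card_eq_fintype_card] at this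
    refine this.trans (congrArg (· % r) (Nat.card_congr
      { toFun := fun y => ⟨y.1.1, hCmem.2 ⟨y.1.2, by
          rw [← mul_inv_eq_iff_eq_mul]; exact congrArg Subtype.val (y.2 : f y.1 = y.1)⟩⟩
        invFun := fun y => ⟨⟨y.1, (hCmem.1 y.2).1⟩, Subtype.ext (by
          show g * y.1 * g⁻¹ = y.1
          rw [(hCmem.1 y.2).2, mul_inv_cancel_right])⟩
        left_inv := fun y => rfl
        right_inv := fun y => rfl }))
  have hdvd : Nat.card C ∣ 32 := h.card ▸ Subgroup.card_dvd_of_le inf_le_left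
  have hne : Nat.card C ≠ 32 := by
    intro he
    have hCR : C = R := Subgroup.eq_of_le_of_card_ge inf_le_left (by rw [he, h.card])
    obtain ⟨c, hc⟩ := h.scalar (g : Matrix ι ι F) fun y hy => by
      rw [← hCR] at hy
      simpa [Units.val_mul] using congrArg Units.val (hCmem.1 hy).2
    exact hns c hc
  haveI : Finite C := Finite.of_injective _ (Subgroup.inclusion_injective (inf_le_left : C ≤ R))
  haveI : Fintype C := Fintype.ofFinite C
  have hrp := hp.out
  rw [h.card] at hmod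
  obtain ⟨k, hk5, hk⟩ := (Nat.dvd_prime_pow Nat.prime_two).1 (show Nat.card C ∣ 2 ^ 5 from hdvd)
  have hodd2 : r ≠ 2 := fun he => by rw [he] at hr; exact absurd hr (by decide)
  by_cases hfix : ∀ y ∈ R, g * y = y * g → y = 1 ∨ y = -1
  · have hC2 : Nat.card C = 2 := by
      have h1 : ∀ y : C, y.1 = 1 ∨ y.1 = -1 := fun y => hfix y (hCmem.1 y.2).1 (hCmem.1 y.2).2
      refine le_antisymm ?_ ?_
      · refine (Nat.card_le_card_of_injective (fun y : C => decide (y.1 = 1)) fun a b hab => Subtype.ext ?_).trans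
          (by simp)
        rcases h1 a with ha | ha <;> rcases h1 b with hb | hb <;>
          simp [ha, hb, h.ne_neg 1, (h.ne_neg 1).symm] at hab ⊢
      · have : Function.Injective (![⟨1, hCmem.2 ⟨R.one_mem, by simp⟩⟩, ⟨-1, hCmem.2 ⟨h.neg_one, by simp⟩⟩] : Fin 2 → C) := by
          intro a b hab
          fin_cases a <;> fin_cases b <;>
            simp [Subtype.ext_iff, h.ne_neg 1, (h.ne_neg 1).symm] at hab ⊢
        simpa using Nat.card_le_card_of_injective _ this
    have h30 : r ∣ 30 := by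
      have := (Nat.modEq_iff_dvd' (by omega)).1 hmod.symm
      rwa [hC2] at this
    have hle := Nat.le_of_dvd (by norm_num) h30
    have hr5 : r = 3 ∨ r = 5 := by
      have : ∀ s < 31, s ∣ 30 → s.Prime → s = 2 ∨ s = 3 ∨ s = 5 := by decide
      rcases this r (by omega) h30 hrp with e | e | e
      exacts [absurd e hodd2, Or.inl e, Or.inr e]
    rcases hr5 with h3 | h5
    · exact (h.not_fix_three hN hr hgr h3 hfix).elim
    · exact Or.inr ⟨h5, hC2, hfix⟩
  · push Not at hfix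
    obtain ⟨t, ht, hgt, ht1, ht2⟩ := hfix
    obtain ⟨s, hs, hgs, hts⟩ := h.exists_partner hN hr hgr ht hgt ht1 ht2
    have hns' : ∀ y : GL ι F, y * t = t * y → s ≠ y := by
      rintro y hy rfl
      exact h.ne_neg _ (hy.trans hts)
    have hg1 : g * (1 : GL ι F) = 1 * g := by simp
    have hg2 : g * (-1 : GL ι F) = -1 * g := by simp
    have hg3 : g * (-t) = -t * g := by simp [hgt]
    have h5 : 5 ≤ Nat.card C := by
      let f : Fin 5 → C := ![⟨1, hCmem.2 ⟨R.one_mem, hg1⟩⟩, ⟨-1, hCmem.2 ⟨h.neg_one, hg2⟩⟩, ⟨t, hCmem.2 ⟨ht, hgt⟩⟩,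
        ⟨-t, hCmem.2 ⟨h.neg_mem ht, hg3⟩⟩, ⟨s, hCmem.2 ⟨hs, hgs⟩⟩]
      have e1 : -t ≠ 1 := fun he => ht2 (by rw [← neg_neg t, he])
      have e2 : -t ≠ -1 := fun he => ht1 (neg_injective he)
      have e3 := hns' 1 (by simp)
      have e4 := hns' (-1) (by simp)
      have e5 := hns' t rfl
      have e6 := hns' (-t) (by simp)
      have : Function.Injective f := by
        intro a b hab
        fin_cases a <;> fin_cases b <;>
          simp [f, Subtype.ext_iff, h.ne_neg 1, (h.ne_neg 1).symm, h.ne_neg t, (h.ne_neg t).symm, ht1, ht2, ht1.symm,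
            ht2.symm, e1, e2, e1.symm, e2.symm, e3, e3.symm, e4, e4.symm, e5, e5.symm, e6, e6.symm] at hab ⊢
      simpa using Nat.card_le_card_of_injective f this
    have hdiv := (Nat.modEq_iff_dvd' (Nat.le_of_dvd (by norm_num) hdvd)).1 hmod.symm
    rw [hk] at h5 hne hdiv
    have hk34 : k = 3 ∨ k = 4 := by
      rcases k with _ | _ | _ | _ | _ | _ | k <;> first | omega | (norm_num at h5 hne ⊢)
    rcases hk34 with rfl | rfl
    · have h24 : r ∣ 2 ^ 3 * 3 := by norm_num at hdiv ⊢; exact hdiv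
      rcases hrp.dvd_mul.1 h24 with e | e
      · exact absurd ((Nat.prime_dvd_prime_iff_eq hrp Nat.prime_two).1 (hrp.dvd_of_dvd_pow e)) hodd2
      · exact Or.inl ⟨(Nat.prime_dvd_prime_iff_eq hrp Nat.prime_three).1 e, by rw [hk]; norm_num, t, ht, s, hs, hgt, hgs, hts⟩
    · have h16 : r ∣ 2 ^ 4 := by norm_num at hdiv ⊢; exact hdiv
      exact absurd ((Nat.prime_dvd_prime_iff_eq hrp Nat.prime_two).1 (hrp.dvd_of_dvd_pow h16)) hodd2

include hN hr hgr in
/-- A fixed-point-free element has g − 1 of rank at least two. -/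
theorem rank_ne_one_of_fix (h : Minus R) (hι : 2 < Fintype.card ι)
    (hfix : ∀ y ∈ R, g * y = y * g → y = 1 ∨ y = -1) : ((g : Matrix ι ι F) - 1).rank ≠ 1 := by
  intro hrk
  obtain ⟨y, -, hc⟩ := h.exists_order_four hN hr hgr hfix
  set Y : Matrix ι ι F := (y : Matrix ι ι F)
  set Yi : Matrix ι ι F := ((y⁻¹ : GL ι F) : Matrix ι ι F)
  set A : Matrix ι ι F := (g : Matrix ι ι F)
  set Ai : Matrix ι ι F := ((g⁻¹ : GL ι F) : Matrix ι ι F)
  have hC : ((g * y * g⁻¹ * y⁻¹ : GL ι F) : Matrix ι ι F) = A * Y * Ai * Yi := by simp [A, Y, Ai, Yi]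
  set C := A * Y * Ai * Yi
  have hCC : C * C = -1 := by rw [← hC, ← Units.val_mul, hc]; simp
  have hunit : IsUnit (C - 1) := by
    have h1 : (C - 1) * (-(2 : F)⁻¹ • (C + 1)) = 1 := by
      rw [Matrix.mul_smul, mul_add, sub_mul, sub_mul, hCC, one_mul, one_mul, mul_one,
        show (-1 - C + (C - 1) : Matrix ι ι F) = (-2 : F) • 1 by rw [neg_smul, two_smul]; abel, smul_smul,
        neg_mul_neg, inv_mul_cancel₀ h.two, one_smul]
    exact (Matrix.isUnit_iff_isUnit_det _).2 (Matrix.isUnit_det_of_right_inverse h1)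
  have hfull := Matrix.rank_of_isUnit _ hunit
  have hid : C - 1 = (A - 1) * (Y * Ai * Yi) + Y * (Ai - 1) * Yi := by
    have hy : Y * Yi = 1 := Units.mul_inv y
    simp only [C, sub_mul, mul_sub, one_mul, mul_one, mul_assoc, hy]
    try abel
  have hle : (Ai - 1).rank ≤ 1 := by
    have : Ai - 1 = (-Ai) * (A - 1) := by
      have hg : Ai * A = 1 := Units.inv_mul g
      simp [mul_sub, hg]; abel
    rw [this, ← hrk]
    exact Matrix.rank_mul_le_right _ _
  have : (C - 1).rank ≤ 2 := by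
    rw [hid]
    refine (rank_add_le' _ _).trans ?_
    have h1 := (Matrix.rank_mul_le_left (A - 1) (Y * Ai * Yi)).trans hrk.le
    have h2 := ((Matrix.rank_mul_le_left (Y * (Ai - 1)) Yi).trans (Matrix.rank_mul_le_right Y (Ai - 1))).trans hle
    omega
  omega

end Normalizing

/-- An element centralising an anticommuting pair has g − 1 of rank other than one. -/
theorem rank_ne_one_of_pair (h : Minus R) {g t s : GL ι F} (ht : t ∈ R) (hs : s ∈ R) (hgt : g * t = t * g)
    (hgs : g * s = s * g) (hts : t * s = -(s * t)) : ((g : Matrix ι ι F) - 1).rank ≠ 1 := by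
  intro hrk
  rw [Matrix.rank] at hrk
  obtain ⟨⟨v, w, hw⟩, hv0, hspan⟩ := finrank_eq_one_iff'.1 hrk
  have hv : v ≠ 0 := fun he => hv0 (Subtype.ext he)
  have key : ∀ y ∈ R, g * y = y * g → ∃ a : F, a ≠ 0 ∧ (y : Matrix ι ι F) *ᵥ v = a • v := by
    intro y hy hgy
    have hcom : (y : Matrix ι ι F) * ((g : Matrix ι ι F) - 1) = ((g : Matrix ι ι F) - 1) * y := by
      have := congrArg Units.val hgy
      simp only [Units.val_mul] at this
      rw [mul_sub, sub_mul, this, mul_one, one_mul]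
    obtain ⟨a, ha⟩ := hspan ⟨(y : Matrix ι ι F) *ᵥ v, (y : Matrix ι ι F) *ᵥ w, by
      rw [Matrix.mulVecLin_apply] at hw ⊢
      rw [Matrix.mulVec_mulVec, ← hcom, ← Matrix.mulVec_mulVec, hw]⟩
    have ha' : (y : Matrix ι ι F) *ᵥ v = a • v := (congrArg Subtype.val ha).symm
    refine ⟨a, fun ha0 => hv ?_, ha'⟩
    rw [ha0, zero_smul] at ha'
    exact Matrix.mulVec_injective_iff_isUnit.2 y.isUnit (by rw [ha', Matrix.mulVec_zero])
  obtain ⟨a, ha, hta⟩ := key t ht hgt
  obtain ⟨b, hb, hsb⟩ := key s hs hgs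
  have h1 := congrArg (fun x : GL ι F => (x : Matrix ι ι F) *ᵥ v) hts
  simp only [Units.val_mul, Units.val_neg, Matrix.neg_mulVec, ← Matrix.mulVec_mulVec, hta, hsb, Matrix.mulVec_smul,
    smul_smul, ← neg_smul] at h1
  have h2 := smul_left_injective F hv h1
  exact mul_ne_zero h.two (mul_ne_zero ha hb) (by linear_combination h2)

/-- tr g · tr g⁻¹ counts the fixed elements. -/
theorem trace_mul_trace (h : Minus R) (hι : Fintype.card ι = 4) {g : GL ι F}
    (hN : ∀ y, y ∈ R ↔ g * y * g⁻¹ ∈ R) {r : ℕ} (hr : Odd r) (hgr : g ^ r = 1) :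
    8 * ((g : Matrix ι ι F).trace * ((g⁻¹ : GL ι F) : Matrix ι ι F).trace) =
      4 * (Nat.card ↥(R ⊓ Subgroup.centralizer {g}) : F) := by
  classical
  haveI : Finite R := Nat.finite_of_card_ne_zero (by rw [h.card]; omega)
  haveI : Fintype R := Fintype.ofFinite R
  set M : Matrix ι ι F := ((g⁻¹ : GL ι F) : Matrix ι ι F)
  let f : R → Matrix ι ι F := fun y => ((y : GL ι F) : Matrix ι ι F) * M * (((y : GL ι F)⁻¹ : GL ι F) : Matrix ι ι F)
  set S := ∑ y, f y with hS
  have hcomm : ∀ a ∈ R, S * (a : Matrix ι ι F) = (a : Matrix ι ι F) * S := by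
    intro a ha
    have h1 : (a : Matrix ι ι F) * S * ((a⁻¹ : GL ι F) : Matrix ι ι F) = S := by
      rw [hS, Finset.mul_sum, Finset.sum_mul]
      refine Fintype.sum_equiv (Equiv.mulLeft (⟨a, ha⟩ : R)) _ _ fun y => ?_
      simp [f, mul_assoc, Matrix.mul_inv_rev]
    conv_lhs => rw [← h1]
    rw [mul_assoc, Units.inv_mul, mul_one]
  obtain ⟨c, hc⟩ := h.scalar S hcomm
  have htr : (32 : F) * M.trace = c * 4 := by
    have := congrArg Matrix.trace hc
    rw [hS, Matrix.trace_sum, Matrix.trace_smul, Matrix.trace_one, hι, smul_eq_mul] at this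
    simp only [f, Matrix.trace_units_conj, Finset.sum_const, Finset.card_univ, ← Nat.card_eq_fintype_card, h.card,
      nsmul_eq_mul] at this
    exact_mod_cast this
  have h4 : (4 : F) ≠ 0 := by rw [show (4 : F) = 2 * 2 by norm_num]; exact mul_ne_zero h.two h.two
  have hc8 : c = 8 * M.trace := mul_right_cancel₀ h4 (by linear_combination -htr)
  have hterm : ∀ y : R, ((g : Matrix ι ι F) * f y).trace = if g * y = (y : GL ι F) * g then 4 else 0 := by
    intro y
    have e : (g : Matrix ι ι F) * f y = ((g * y * g⁻¹ * (y : GL ι F)⁻¹ : GL ι F) : Matrix ι ι F) := by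
      simp [f, M, mul_assoc]
    rw [e]
    split_ifs with hy
    · rw [hy, mul_inv_cancel_right, mul_inv_cancel, Units.val_one, Matrix.trace_one, hι]
      norm_num
    · refine h.trace_eq_zero (R.mul_mem (conj_mem hN y.2) (R.inv_mem y.2)) (fun he => hy ?_) (fun he => ?_)
      · rw [← mul_inv_eq_iff_eq_mul]; exact mul_inv_eq_one.1 he
      · exact h.not_conj_neg hr hgr y (by rw [mul_inv_eq_iff_eq_mul.1 he, neg_one_mul])
  have h1 : ((g : Matrix ι ι F) * S).trace = 4 * (Nat.card ↥(R ⊓ Subgroup.centralizer {g}) : F) := by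
    rw [hS, Finset.mul_sum, Matrix.trace_sum, Finset.sum_congr rfl fun y _ => hterm y, ← Finset.sum_filter,
      Finset.sum_const, nsmul_eq_mul, mul_comm, ← Fintype.card_subtype, ← Nat.card_eq_fintype_card]
    congr 2
    exact Nat.card_congr
      { toFun := fun y => ⟨y.1.1, y.1.2, Subgroup.mem_centralizer_singleton_iff.2 y.2.symm⟩
        invFun := fun y => ⟨⟨y.1, y.2.1⟩, (Subgroup.mem_centralizer_singleton_iff.1 y.2.2).symm⟩
        left_inv := fun y => rfl
        right_inv := fun y => rfl }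
  rw [hc, Matrix.mul_smul, mul_one, Matrix.trace_smul, hc8, smul_eq_mul] at h1
  linear_combination h1

end Minus

end Cfsg.Agent.H98.Extraspecial
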